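import Mathlib.LinearAlgebra.Matrix.Charpoly.Coeff
import Mathlib.LinearAlgebra.Matrix.ToLin
import Mathlib.RingTheory.Finiteness.Nakayama
import Mathlib.RingTheory.Nakayama
import Mathlib.Algebra.Algebra.Bilinear

/-!
# Monic equations of elements splitting off a cyclic factor modulo a Zariski pair
-/

universe u

open Polynomial

namespace Groth.Agent.CAlgZariskiPair

theorem exists_monic (A B : Type u) [CommRing A] [CommRing B]
    [Algebra A B] [Module.Finite A B] (I : Ideal A) (hI : I ≤ Ideal.jacobson (⊥ : Ideal A))
    (B₁ B₂ : Type u) [CommRing B₁] [CommRing B₂] [Algebra A B₁] [Algebra A B₂]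
    (e : (B ⧸ I.map (algebraMap A B)) ≃ₐ[A] B₁ × B₂) (h₁ : Function.Surjective (algebraMap A B₁)) (b : B)
    (hb : e (Ideal.Quotient.mk (I.map (algebraMap A B)) b) = (1, 0)) :
    ∃ (f : A[X]) (d : ℕ), f.Monic ∧ Polynomial.aeval b f = 0 ∧ 1 ≤ d ∧
      f.map (Ideal.Quotient.mk I) = (X - 1) * X ^ d := by
  classical
  let q : B →ₐ[A] B₁ × B₂ := e.toAlgHom.comp (Ideal.Quotient.mkₐ A (I.map (algebraMap A B)))
  have hq : Function.Surjective q := e.surjective.comp Ideal.Quotient.mk_surjective
  have hqb : q b = (1, 0) := hb
  have hker : ∀ x, q x = 0 → x ∈ I • (⊤ : Submodule A B) := fun x hx => by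
    rw [Ideal.smul_top_eq_map]
    have h0 : Ideal.Quotient.mk (I.map (algebraMap A B)) x = 0 := e.injective (hx.trans (map_zero e).symm)
    exact Ideal.Quotient.eq_zero_iff_mem.1 h0
  obtain ⟨k, g, hg⟩ := Submodule.fg_iff_exists_fin_generating_family.1 (Module.Finite.fg_top (R := A) (M := B))
  choose c hc using fun i => hq ((0 : B₁), (q (g i)).2)
  let v : Option (Option (Fin k)) → B := fun i => i.elim b (fun j => j.elim 0 c)
  let π : (Option (Option (Fin k)) → A) →ₗ[A] B := Fintype.linearCombination A v
  have hπv : ∀ i, π (Pi.single i 1) = v i := fun i => by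
    simp [π, Fintype.linearCombination_apply_single]
  have hspan : ∀ x : B, x ∈ LinearMap.range π := by
    have hle : (⊤ : Submodule A B) ≤ LinearMap.range π := by
      refine Submodule.le_of_le_smul_of_le_jacobson_bot Module.Finite.fg_top hI ?_
      rw [← hg, Submodule.span_le]
      rintro _ ⟨i, rfl⟩
      obtain ⟨a, ha⟩ := h₁ (q (g i)).1
      have hmem : a • b + c i ∈ LinearMap.range π := by
        refine add_mem (Submodule.smul_mem _ a ⟨_, hπv none⟩) ⟨_, hπv (some (some i))⟩
      have : g i - (a • b + c i) ∈ I • (⊤ : Submodule A B) := hker _ (by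
        rw [map_sub, map_add, map_smul, hqb, hc, sub_eq_zero]
        ext <;> simp [Algebra.smul_def, ha])
      rw [hg]
      exact (add_sub_cancel (a • b + c i) (g i)) ▸ Submodule.add_mem_sup hmem this
    exact fun x => hle trivial
  let D : Option (Option (Fin k)) → A := fun i => i.elim 1 (fun _ => 0)
  have hdiff : ∀ i, b * v i - D i • v i ∈ I • (⊤ : Submodule A B) := fun i => hker _ (by
    rcases i with _ | _ | j
    · simp [v, D, hqb]
    · simp [v, D]
    · simp [v, D, hqb, hc])
  have hrep : ∀ x ∈ I • (⊤ : Submodule A B), ∃ w : Option (Option (Fin k)) → A, (∀ j, w j ∈ I) ∧ π w = x := by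
    intro x hx
    induction hx using Submodule.smul_induction_on' with
    | smul r hr y _ =>
      obtain ⟨w, rfl⟩ := hspan y
      exact ⟨r • w, fun j => I.mul_mem_right _ hr, map_smul π r w⟩
    | add x _ y _ hx hy =>
      obtain ⟨w, hw, rfl⟩ := hx
      obtain ⟨w', hw', rfl⟩ := hy
      exact ⟨w + w', fun j => I.add_mem (hw j) (hw' j), map_add π w w'⟩
  choose w hw hwπ using fun i => hrep _ (hdiff i)
  let M : Matrix (Option (Option (Fin k))) (Option (Option (Fin k))) A :=
    Matrix.of fun j i => (if j = i then D i else 0) + w i j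
  have hM : ∀ y, π (Matrix.toLin' M y) = b * π y := by
    suffices π ∘ₗ Matrix.toLin' M = Algebra.lmul A B b ∘ₗ π from fun y => LinearMap.congr_fun this y
    refine LinearMap.pi_ext' fun i => LinearMap.ext_ring ?_
    simp only [LinearMap.comp_apply, LinearMap.single_apply, Algebra.coe_lmul_eq_mul, LinearMap.mul_apply_apply]
    have hcol : Matrix.toLin' M (Pi.single i 1) = D i • Pi.single i 1 + w i := by
      ext j
      rcases eq_or_ne j i with rfl | h
      · simp [M]
      · simp [M, h]
    rw [hcol, map_add, map_smul, hπv, hwπ, add_sub_cancel]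
  have haev : ∀ (p : A[X]) y, π (aeval (Matrix.toLin' M) p y) = aeval b p * π y := by
    intro p
    induction p using Polynomial.induction_on' with
    | add p q hp hq => intro y; simp [hp, hq, add_mul]
    | monomial n a =>
      intro y
      simp only [aeval_monomial, Module.End.mul_apply, Module.algebraMap_end_apply]
      rw [map_smul, Algebra.smul_def, mul_assoc]
      congr 1
      induction n with
      | zero => simp
      | succ n ih => rw [pow_succ', Module.End.mul_apply, hM, ih, pow_succ']; ring
  refine ⟨Matrix.charpoly M, k + 1, Matrix.charpoly_monic M, ?_, by omega, ?_⟩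
  · obtain ⟨y, hy⟩ := hspan 1
    have h := haev (Matrix.charpoly M) y
    rw [hy, mul_one] at h
    have hz : aeval (Matrix.toLin' M) (Matrix.charpoly M) = 0 := by
      exact (aeval_algHom_apply (Matrix.toLinAlgEquiv' (R := A) (n := Option (Option (Fin k)))).toAlgHom M (Matrix.charpoly M)).trans
        (by rw [Matrix.aeval_self_charpoly M, map_zero])
    rw [← h, hz, LinearMap.zero_apply, map_zero]
  · rw [← Matrix.charpoly_map]
    have hdiag : M.map (Ideal.Quotient.mk I) = Matrix.diagonal (fun i => Ideal.Quotient.mk I (D i)) := by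
      ext i j
      simp only [M, Matrix.map_apply, Matrix.of_apply, map_add, Ideal.Quotient.eq_zero_iff_mem.2 (hw j i), add_zero]
      rcases eq_or_ne i j with rfl | h
      · simp
      · simp [h]
    rw [hdiag, Matrix.charpoly_diagonal, Fintype.prod_option]
    simp [D, Finset.prod_const, Fintype.card_option]

end Groth.Agent.CAlgZariskiPair
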